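import Groth.Agent.SGA3t2b.K218.Ad.DatumLie
import Groth.Agent.Sga3B.MT.FromPin
import Mathlib.Algebra.Lie.BaseChange
import Mathlib.LinearAlgebra.TensorProduct.Basis

/-!
# Base change of the points model of a Lie algebra along a field extension
-/

set_option autoImplicit false
universe u v

open TensorProduct

namespace K218.PModBC

open Groth.Agent.Sga3B Cell MT K929.LieDict K218.LieP

section rs

variable {k K A A₀ : Type u} [Field k] [Field K] [Algebra k K] [CommRing A] [Algebra k A]
  [CommRing A₀] [Algebra K A₀] (e : K ⊗[k] A ≃ₐ[K] A₀)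
variable {C C' : Type u} [CommRing C] [Algebra k C] [Algebra K C] [IsScalarTower k K C]
  [CommRing C'] [Algebra k C'] [Algebra K C'] [IsScalarTower k K C']

/-- restriction of points -/
def rs (g : Pt K A₀ C) : Pt k A C :=
  Pt.mk (((g.hom.comp e.toAlgHom).restrictScalars k).comp Algebra.TensorProduct.includeRight)

lemma rs_apply (g : Pt K A₀ C) (a : A) : (rs e g).hom a = g.hom (e (1 ⊗ₜ a)) := rfl

lemma rs_nat (ψ : C →ₐ[K] C') (g : Pt K A₀ C) :
    rs e (Pt.map ψ g) = Pt.map (ψ.restrictScalars k) (rs e g) := rfl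

lemma rs_injective : Function.Injective (rs (k := k) (A := A) (C := C) e) := by
  intro g h hgh
  have h1 : g.hom.comp e.toAlgHom = h.hom.comp e.toAlgHom := by
    apply Algebra.TensorProduct.ext
    · ext
    · apply AlgHom.ext
      intro f
      exact congrArg (fun z : Pt k A C => z.hom f) hgh
  apply Pt.ext
  intro f
  obtain ⟨z, rfl⟩ := e.surjective f
  exact DFunLike.congr_fun h1 z

lemma rs_surjective : Function.Surjective (rs (k := k) (A := A) (C := C) e) := by
  intro p
  refine ⟨Pt.mk ((Algebra.TensorProduct.lift (Algebra.ofId K C) p.hom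
    (fun _ _ => Commute.all _ _)).comp e.symm.toAlgHom), ?_⟩
  apply Pt.ext
  intro a
  rw [rs_apply]
  change (Algebra.TensorProduct.lift (Algebra.ofId K C) p.hom (fun _ _ => Commute.all _ _))
    (e.symm (e (1 ⊗ₜ a))) = _
  rw [AlgEquiv.symm_apply_apply, Algebra.TensorProduct.lift_tmul, map_one, one_mul]

variable [PtGrp k A] [PtGrp K A₀] {e}

lemma rs_mul (hm : ResMul (A := A) e) (g h : Pt K A₀ C) :
    rs (k := k) e (g * h) = rs e g * rs e h := by
  let φ : K →ₐ[k] C := IsScalarTower.toAlgHom k K C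
  let τ : C →ₐ[K] Via φ := { (RingHom.id C) with commutes' := fun _ => rfl }
  have key : ∀ g : Pt K A₀ C, rs (k := k) e g = res e φ (Pt.map τ g) := fun g => rfl
  rw [key, key, key, Pt.map_mul]
  exact hm φ _ _

/-- restriction of points as an isomorphism -/
noncomputable def rsE (hm : ResMul (A := A) e) (C : Type u) [CommRing C] [Algebra k C] [Algebra K C]
    [IsScalarTower k K C] : Pt K A₀ C ≃* Pt k A C :=
  { Equiv.ofBijective (rs e) ⟨rs_injective e, rs_surjective e⟩ with
    map_mul' := rs_mul hm }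

@[simp] lemma rsE_apply (hm : ResMul (A := A) e) (g : Pt K A₀ C) : rsE hm C g = rs e g := rfl

lemma rs_rsE_symm (hm : ResMul (A := A) e) (g : Pt k A C) : rs e ((rsE hm C).symm g) = g :=
  (rsE hm C).apply_symm_apply g

lemma rs_inv (hm : ResMul (A := A) e) (g : Pt K A₀ C) : rs (k := k) e g⁻¹ = (rs e g)⁻¹ :=
  map_inv (rsE hm C) g

lemma rs_one (hm : ResMul (A := A) e) : rs (k := k) e (1 : Pt K A₀ C) = 1 :=
  map_one (rsE hm C)

end rs

section PK

variable {k : Type u} [Field k] {A : Type u} [CommRing A] [Algebra k A] [PtGrp k A]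
  {L : Type v} [LieRing L] [LieAlgebra k L]

variable (k A) in
/-- the unit point -/
def cou : A →ₐ[k] k := (1 : Pt k A k).hom

lemma one_hom (B : Type u) [CommRing B] [Algebra k B] (a : A) :
    (1 : Pt k A B).hom a = algebraMap k B (cou k A a) := by
  rw [← Pt.map_one (Algebra.ofId k B)]
  rfl

lemma fst_of_mem {B : Type u} [CommRing B] [Algebra k B] {g : Pt k A (DualNumber B)}
    (hg : g ∈ infP k A B) (a : A) : (g.hom a).fst = algebraMap k B (cou k A a) := by
  rw [← one_hom]
  exact congrArg (fun z : Pt k A B => z.hom a) (mem_infP.1 hg)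

variable (E : PMod k A L)

lemma dl_mul (a b : A) : E.dl (a * b) = cou k A a • E.dl b + cou k A b • E.dl a := by
  ext x
  rw [E.dl_apply, map_mul, TrivSqZeroExt.snd_mul, fst_of_mem (E.P_mem x), fst_of_mem (E.P_mem x)]
  simp [E.dl_apply, mul_comm]

lemma dl_one : E.dl 1 = 0 := by
  ext x
  rw [E.dl_apply, map_one]
  rfl

variable {K : Type u} [Field K] [Algebra k K]

/-- the extension of a functional -/
noncomputable def ev1 (f : Module.Dual k L) : K ⊗[k] L →ₗ[K] K :=
  (TensorProduct.AlgebraTensorModule.rid k K K).toLinearMap ∘ₗ f.baseChange K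

@[simp] lemma ev1_tmul (f : Module.Dual k L) (r : K) (x : L) :
    ev1 f (r ⊗ₜ[k] x) = f x • r := by
  simp [ev1]

lemma ev1_add (f g : Module.Dual k L) (u : K ⊗[k] L) : ev1 (f + g) u = ev1 f u + ev1 g u := by
  induction u with
  | zero => simp
  | add u v hu hv => rw [map_add, map_add, map_add, hu, hv]; ring
  | tmul r x => simp [add_smul]

lemma ev1_smul (c : k) (f : Module.Dual k L) (u : K ⊗[k] L) : ev1 (c • f) u = c • ev1 f u := by
  induction u with
  | zero => simp
  | add u v hu hv => rw [map_add, map_add, hu, hv, smul_add]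
  | tmul r x => simp [mul_smul]

lemma ev1_zero (u : K ⊗[k] L) : ev1 (0 : Module.Dual k L) u = 0 := by
  have := ev1_smul (0 : k) (0 : Module.Dual k L) u
  simpa using this

/-- the linear map of a derivation at the unit -/
noncomputable def dLin (D : A →ₗ[k] K) : A →ₗ[k] DualNumber K where
  toFun a := (algebraMap k K (cou k A a), D a)
  map_add' a b := by
    apply TrivSqZeroExt.ext
    · change algebraMap k K (cou k A (a + b)) = algebraMap k K (cou k A a) + algebraMap k K (cou k A b)
      rw [map_add, map_add]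
    · exact map_add D a b
  map_smul' r a := by
    apply TrivSqZeroExt.ext
    · change algebraMap k K (cou k A (r • a)) = r • algebraMap k K (cou k A a)
      rw [map_smul, smul_eq_mul, map_mul, Algebra.smul_def]
    · exact map_smul D r a

lemma dLin_fst (D : A →ₗ[k] K) (a : A) : (dLin D a).fst = algebraMap k K (cou k A a) := rfl
lemma dLin_snd (D : A →ₗ[k] K) (a : A) : (dLin D a).snd = D a := rfl

/-- The infinitesimal point of a derivation at the unit. -/
noncomputable def mkD (D : A →ₗ[k] K) (h1 : D 1 = 0)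
    (hmul : ∀ a b, D (a * b) = cou k A a • D b + cou k A b • D a) : Pt k A (DualNumber K) :=
  Pt.mk (AlgHom.ofLinearMap (dLin D)
    (by
      apply TrivSqZeroExt.ext
      · rw [dLin_fst, map_one, map_one]
        rfl
      · rw [dLin_snd, h1]
        rfl)
    (fun a b => by
      apply TrivSqZeroExt.ext
      · rw [dLin_fst, TrivSqZeroExt.fst_mul, dLin_fst, dLin_fst, map_mul, map_mul]
      · rw [dLin_snd, DualNumber.snd_mul, dLin_fst, dLin_fst, dLin_snd, dLin_snd, hmul,
          Algebra.smul_def, Algebra.smul_def, mul_comm (D a)]))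

lemma mkD_fst (D : A →ₗ[k] K) (h1 : D 1 = 0)
    (hmul : ∀ a b, D (a * b) = cou k A a • D b + cou k A b • D a) (a : A) :
    ((mkD D h1 hmul).hom a).fst = algebraMap k K (cou k A a) := rfl

lemma mkD_snd (D : A →ₗ[k] K) (h1 : D 1 = 0)
    (hmul : ∀ a b, D (a * b) = cou k A a • D b + cou k A b • D a) (a : A) :
    ((mkD D h1 hmul).hom a).snd = D a := rfl

lemma mkD_mem (D : A →ₗ[k] K) (h1 : D 1 = 0)
    (hmul : ∀ a b, D (a * b) = cou k A a • D b + cou k A b • D a) :
    mkD D h1 hmul ∈ infP k A K := by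
  rw [mem_infP]
  apply Pt.ext
  intro a
  rw [one_hom]
  exact mkD_fst D h1 hmul a

/-- The infinitesimal point of an element of the base change. -/
noncomputable def PK (u : K ⊗[k] L) : Pt k A (DualNumber K) :=
  mkD { toFun := fun a => ev1 (E.dl a) u
        map_add' := fun a b => by rw [map_add, ev1_add]
        map_smul' := fun r a => by rw [map_smul, ev1_smul]; rfl }
    (by
      change ev1 (E.dl 1) u = 0
      rw [dl_one, ev1_zero])
    (fun a b => by
      change ev1 (E.dl (a * b)) u = _ • ev1 (E.dl b) u + _ • ev1 (E.dl a) u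
      rw [dl_mul, ev1_add, ev1_smul, ev1_smul])

@[simp] lemma PK_fst (u : K ⊗[k] L) (a : A) :
    ((PK E u).hom a).fst = algebraMap k K (cou k A a) := rfl

@[simp] lemma PK_snd (u : K ⊗[k] L) (a : A) : ((PK E u).hom a).snd = ev1 (E.dl a) u := rfl

lemma PK_mem (u : K ⊗[k] L) : PK E u ∈ infP k A K := by
  rw [mem_infP]
  apply Pt.ext
  intro a
  rw [one_hom]
  exact PK_fst E u a

lemma PK_add (u v : K ⊗[k] L) : PK E (u + v) = PK E u * PK E v := by
  apply infP_ext (PK_mem E _) (mul_mem (PK_mem E _) (PK_mem E _))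
  intro a
  rw [snd_mul (PK_mem E _) (PK_mem E _), PK_snd, PK_snd, PK_snd, map_add]

lemma PK_smul (r : K) (u : K ⊗[k] L) : PK E (r • u) = Pt.map (dscale k r) (PK E u) := by
  apply infP_ext (PK_mem E _) (infP_scale (PK_mem E _) _)
  intro a
  rw [snd_scale, PK_snd, PK_snd, map_smul, smul_eq_mul]

lemma inr_sq (r : K) : (TrivSqZeroExt.inr r : DualNumber K) * TrivSqZeroExt.inr r = 0 := by
  simp

lemma PK_tmul (r : K) (x : L) : PK E (r ⊗ₜ x) = E.Q (TrivSqZeroExt.inr r : DualNumber K)
    (inr_sq r) x := by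
  apply Pt.ext
  intro a
  change _ = evs (TrivSqZeroExt.inr r : DualNumber K) (inr_sq r) ((E.P x).hom a)
  rw [evs_apply]
  apply TrivSqZeroExt.ext
  · simp [fst_of_mem (E.P_mem x), TrivSqZeroExt.algebraMap_eq_inl']
  · simp [E.dl_apply, TrivSqZeroExt.algebraMap_eq_inl', Algebra.smul_def]

lemma PK_one_tmul (x : L) : PK E (1 ⊗ₜ x) = Pt.map (dmap (Algebra.ofId k K)) (E.P x) := by
  apply infP_ext (PK_mem E _) (infP_dmap (E.P_mem x) _)
  intro a
  rw [snd_dmap, PK_snd, ev1_tmul, E.dl_apply, Algebra.smul_def, mul_one]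
  rfl

variable [FiniteDimensional k L]

lemma PK_injective : Function.Injective (PK (K := K) E) := by
  intro u v h
  let b := Module.finBasis k L
  apply (b.baseChange K).ext_elem
  intro i
  have key : ∀ w : K ⊗[k] L, (b.baseChange K).repr w i = ev1 (b.coord i) w := by
    intro w
    induction w with
    | zero => simp
    | add u v hu hv => rw [map_add, map_add, Finsupp.add_apply, hu, hv]
    | tmul r x => simp [Module.Basis.baseChange]
  rw [key, key]
  obtain ⟨a, ha⟩ := E.dl_surjective (b.coord i)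
  rw [← ha, ← PK_snd, ← PK_snd, h]

omit [FiniteDimensional k L] in
/-- A function killed by all tangent vectors over `k` is, up to a constant, in the square of the
augmentation ideal. -/
lemma mem_sq_of_dl {a : A} (ha : E.dl a = 0) :
    a - algebraMap k A (cou k A a) ∈ (RingHom.ker (cou k A)) ^ 2 := by
  set I := RingHom.ker (cou k A)
  by_contra hcon
  let V : Submodule k A := (I ^ 2).restrictScalars k
  obtain ⟨f, hf1, hf2⟩ := Submodule.exists_le_ker_of_notMem
    (show a - algebraMap k A (cou k A a) ∉ V from hcon)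
  have hI : ∀ x : A, x - algebraMap k A (cou k A x) ∈ I := by
    intro x
    change cou k A (x - algebraMap k A (cou k A x)) = 0
    simp
  have hprod : ∀ x y : A, f ((x - algebraMap k A (cou k A x)) * (y - algebraMap k A (cou k A y))) = 0 := by
    intro x y
    apply hf2
    change _ ∈ I ^ 2
    rw [pow_two]
    exact Ideal.mul_mem_mul (hI x) (hI y)
  have hmul : ∀ x y : A, f (x * y - algebraMap k A (cou k A (x * y))) =
      cou k A x * f (y - algebraMap k A (cou k A y)) + cou k A y * f (x - algebraMap k A (cou k A x)) := by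
    intro x y
    have h1 : x * y - algebraMap k A (cou k A (x * y)) =
        (x - algebraMap k A (cou k A x)) * (y - algebraMap k A (cou k A y)) +
          cou k A x • (y - algebraMap k A (cou k A y)) +
          cou k A y • (x - algebraMap k A (cou k A x)) := by
      rw [map_mul, map_mul, Algebra.smul_def, Algebra.smul_def]
      ring
    rw [h1, map_add, map_add, hprod, map_smul, map_smul, zero_add, smul_eq_mul, smul_eq_mul]
  let D : A →ₗ[k] k :=
    { toFun := fun x => f (x - algebraMap k A (cou k A x))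
      map_add' := fun x y => by
        rw [← map_add, map_add (cou k A), map_add (algebraMap k A)]
        congr 1
        ring
      map_smul' := fun r x => by
        rw [RingHom.id_apply, ← map_smul, map_smul (cou k A), smul_eq_mul, map_mul, smul_sub,
          Algebra.smul_def r (algebraMap k A (cou k A x))] }
  have hD : ∀ x, D x = f (x - algebraMap k A (cou k A x)) := fun _ => rfl
  have hD1 : D 1 = 0 := by rw [hD, map_one, map_one, sub_self, map_zero]
  have hDm : ∀ x y, D (x * y) = cou k A x • D y + cou k A y • D x := fun x y => hmul x y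
  obtain ⟨x, hx⟩ := E.P_surj (mkD D hD1 hDm) (mkD_mem D hD1 hDm)
  have h2 : E.dl a x = f (a - algebraMap k A (cou k A a)) := by
    rw [E.dl_apply, hx, mkD_snd, hD]
  rw [ha] at h2
  exact hf1 h2.symm

lemma PK_surj (g : Pt k A (DualNumber K)) (hg : g ∈ infP k A K) : ∃ u, PK E u = g := by
  have hmul : ∀ x y : A, (g.hom (x * y)).snd =
      algebraMap k K (cou k A x) * (g.hom y).snd + algebraMap k K (cou k A y) * (g.hom x).snd := by
    intro x y
    rw [map_mul, DualNumber.snd_mul, fst_of_mem hg, fst_of_mem hg, mul_comm (g.hom x).snd]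
  have hconst : ∀ c : k, (g.hom (algebraMap k A c)).snd = 0 := by
    intro c
    rw [AlgHom.commutes, TrivSqZeroExt.algebraMap_eq_inl']
    simp
  have hker : ∀ a, E.dl a = 0 → (g.hom a).snd = 0 := by
    intro a ha
    have h1 := mem_sq_of_dl E ha
    have h2 : ∀ z ∈ (RingHom.ker (cou k A)) ^ 2, (g.hom z).snd = 0 := by
      intro z hz
      rw [pow_two] at hz
      induction hz using Submodule.mul_induction_on' with
      | mem_mul_mem m hm n hn =>
        rw [hmul, show cou k A m = 0 from hm, show cou k A n = 0 from hn]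
        simp
      | add x _ y _ hx hy => rw [map_add, TrivSqZeroExt.snd_add, hx, hy, add_zero]
    have h3 := h2 _ h1
    rw [map_sub, TrivSqZeroExt.snd_sub, hconst, sub_zero] at h3
    exact h3
  let b := Module.finBasis k L
  choose a ha using fun i => E.dl_surjective (b.coord i)
  refine ⟨∑ i, (g.hom (a i)).snd ⊗ₜ b i, ?_⟩
  apply infP_ext (PK_mem E _) hg
  intro z
  have h4 : E.dl (z - ∑ i, (E.dl z (b i)) • a i) = 0 := by
    rw [map_sub, map_sum, sub_eq_zero]
    simp only [map_smul, ha]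
    exact (b.sum_dual_apply_smul_coord (E.dl z)).symm
  have h5 := hker _ h4
  rw [map_sub, TrivSqZeroExt.snd_sub, sub_eq_zero] at h5
  rw [PK_snd, map_sum, h5, map_sum, TrivSqZeroExt.snd_sum]
  refine Finset.sum_congr rfl fun i _ => ?_
  rw [ev1_tmul, map_smul, TrivSqZeroExt.snd_smul]

end PK

section lie

variable {k : Type u} [Field k] {A : Type u} [CommRing A] [Algebra k A] [PtGrp k A]
  {L : Type v} [LieRing L] [LieAlgebra k L] (E : PMod k A L) {K : Type u} [Field K] [Algebra k K]
variable {C : Type u} [CommRing C] [Algebra k C] [Algebra K C] [IsScalarTower k K C]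

/-- the value at a square-zero element -/
noncomputable def QK (s : C) (hs : s * s = 0) (u : K ⊗[k] L) : Pt k A C :=
  Pt.map ((evs (k := K) s hs).restrictScalars k) (PK E u)

lemma QK_add (s : C) (hs : s * s = 0) (u v : K ⊗[k] L) :
    QK E s hs (u + v) = QK E s hs u * QK E s hs v := by
  unfold QK
  rw [PK_add, Pt.map_mul]

lemma QK_zero (s : C) (hs : s * s = 0) : QK E s hs (0 : K ⊗[k] L) = 1 := by
  have h := QK_add E s hs (0 : K ⊗[k] L) 0
  rw [add_zero] at h
  exact mul_eq_left.mp h.symm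

omit [IsScalarTower k K C] [Algebra k C] in
lemma smul_sq {s : C} (hs : s * s = 0) (r : K) : (r • s) * (r • s) = 0 := by
  rw [smul_mul_smul_comm, hs, smul_zero]

lemma QK_tmul (s : C) (hs : s * s = 0) (r : K) (x : L) :
    QK E s hs (r ⊗ₜ x) = E.Q (r • s) (smul_sq hs r) x := by
  unfold QK
  rw [PK_tmul]
  unfold PMod.Q
  rw [Pt.map_map, comp_evs _ _ _ (r • s) (smul_sq hs r)]
  change evs (k := K) s hs (TrivSqZeroExt.inr r) = r • s
  rw [evs_apply, TrivSqZeroExt.fst_inr, TrivSqZeroExt.snd_inr, map_zero, zero_add, Algebra.smul_def]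

lemma QK_comm (s t : C) (hs : s * s = 0) (ht : t * t = 0) (hst : s * t = 0) (u v : K ⊗[k] L) :
    QK E s hs u * QK E t ht v = QK E t ht v * QK E s hs u := by
  induction u with
  | zero => rw [QK_zero, one_mul, mul_one]
  | add u₁ u₂ h₁ h₂ =>
    rw [QK_add, mul_assoc, h₂, ← mul_assoc, h₁, mul_assoc]
  | tmul r x =>
    induction v with
    | zero => rw [QK_zero, one_mul, mul_one]
    | add v₁ v₂ h₁ h₂ =>
      rw [QK_add, ← mul_assoc, h₁, mul_assoc, h₂, mul_assoc]
    | tmul r' y =>
      rw [QK_tmul, QK_tmul]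
      exact E.Q_comm _ _ _ _ (by rw [smul_mul_smul_comm, hst, smul_zero]) x y

lemma comm_aux1 {G : Type*} [Group G] {g₁ g₂ h c₁ c₂ : G} (e₁ : c₁ = g₁ * h * g₁⁻¹ * h⁻¹)
    (e₂ : c₂ = g₂ * h * g₂⁻¹ * h⁻¹) (hc : g₁ * c₂ = c₂ * g₁) (hcc : c₁ * c₂ = c₂ * c₁) :
    c₁ * c₂ = g₁ * g₂ * h * (g₁ * g₂)⁻¹ * h⁻¹ := by
  have h1 : g₁ * g₂ * h * (g₁ * g₂)⁻¹ * h⁻¹ = (g₁ * (g₂ * h * g₂⁻¹ * h⁻¹)) * (h * g₁⁻¹ * h⁻¹) := by
    group
  rw [h1, ← e₂, hc, hcc, e₁]
  group

lemma comm_aux2 {G : Type*} [Group G] {g h₁ h₂ c₁ c₂ : G} (e₁ : c₁ = g * h₁ * g⁻¹ * h₁⁻¹)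
    (e₂ : c₂ = g * h₂ * g⁻¹ * h₂⁻¹) (hc : h₁ * c₂ = c₂ * h₁) :
    c₁ * c₂ = g * (h₁ * h₂) * g⁻¹ * (h₁ * h₂)⁻¹ := by
  have h1 : g * (h₁ * h₂) * g⁻¹ * (h₁ * h₂)⁻¹ =
      (g * h₁ * g⁻¹ * h₁⁻¹) * (h₁ * (g * h₂ * g⁻¹ * h₂⁻¹)) * h₁⁻¹ := by
    group
  rw [h1, ← e₁, ← e₂, hc]
  group

lemma QK_lie (s t : C) (hs : s * s = 0) (ht : t * t = 0) (hst : (s * t) * (s * t) = 0)
    (u v : K ⊗[k] L) : QK E (s * t) hst ⁅u, v⁆ =
      QK E s hs u * QK E t ht v * (QK E s hs u)⁻¹ * (QK E t ht v)⁻¹ := by
  have hs' : s * (s * t) = 0 := by rw [← mul_assoc, hs, zero_mul]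
  have ht' : t * (s * t) = 0 := by rw [mul_left_comm, ht, mul_zero]
  induction u with
  | zero => rw [zero_lie, QK_zero, QK_zero]; group
  | add u₁ u₂ h₁ h₂ =>
    rw [add_lie, QK_add, QK_add E s hs]
    refine comm_aux1 h₁ h₂ (QK_comm E _ _ _ _ hs' _ _) ?_
    exact QK_comm E _ _ _ _ hst _ _
  | tmul r x =>
    induction v with
    | zero => rw [lie_zero, QK_zero, QK_zero]; group
    | add v₁ v₂ h₁ h₂ =>
      rw [lie_add, QK_add, QK_add E t ht]
      exact comm_aux2 h₁ h₂ (QK_comm E _ _ _ _ ht' _ _)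
    | tmul r' y =>
      rw [LieAlgebra.ExtendScalars.bracket_tmul, QK_tmul, QK_tmul, QK_tmul]
      have h0 : (r • s) * (r' • t) * ((r • s) * (r' • t)) = 0 := by
        rw [smul_mul_smul_comm]
        exact smul_sq hst _
      have h1 := E.Q_lie (r • s) (r' • t) (smul_sq hs r) (smul_sq ht r') h0 x y
      rw [← h1]
      exact E.Q_congr (smul_mul_smul_comm r s r' t).symm _

end lie

section final

variable {k K A A₀ : Type u} [Field k] [Field K] [Algebra k K] [CommRing A] [Algebra k A]
  [CommRing A₀] [Algebra K A₀] {e : K ⊗[k] A ≃ₐ[K] A₀} [PtGrp k A] [PtGrp K A₀]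
  (hm : ResMul (A := A) e) {L : Type v} [LieRing L] [LieAlgebra k L] [FiniteDimensional k L]
  (E : PMod k A L)

/-- The base change of a points model. -/
noncomputable def bc : PMod K A₀ (K ⊗[k] L) where
  P u := (rsE hm (DualNumber K)).symm (PK E u)
  P_add u v := by rw [PK_add, map_mul]
  P_smul r u := by
    apply rs_injective (k := k) e
    rw [rs_rsE_symm, rs_nat, rs_rsE_symm, PK_smul]
    rfl
  P_inj u v h := PK_injective E ((rsE hm (DualNumber K)).symm.injective h)
  P_mem u := by
    rw [mem_infP]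
    apply rs_injective (k := k) e
    rw [rs_nat, rs_rsE_symm, rs_one hm]
    exact PK_mem E u
  P_surj g hg := by
    have h1 : rs (k := k) e g ∈ infP k A K := by
      rw [mem_infP, ← rs_one (k := k) hm, ← mem_infP.1 hg]
      rfl
    obtain ⟨u, hu⟩ := PK_surj E _ h1
    refine ⟨u, ?_⟩
    apply rs_injective (k := k) e
    rw [rs_rsE_symm, hu]
  P_lie u v {C} _ _ s t hs ht hst := by
    let _ : Algebra k C := Algebra.compHom C (algebraMap k K)
    have : IsScalarTower k K C := IsScalarTower.of_algebraMap_eq fun _ => rfl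
    apply rs_injective (k := k) e
    rw [rs_mul hm, rs_mul hm, rs_mul hm, rs_inv hm, rs_inv hm, rs_nat, rs_nat, rs_nat, rs_rsE_symm,
      rs_rsE_symm, rs_rsE_symm]
    exact QK_lie E s t hs ht hst u v

lemma rs_bc_P (u : K ⊗[k] L) : rs (k := k) e ((bc hm E).P u) = PK E u := rs_rsE_symm hm _

end final

end K218.PModBC
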