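import Groth.Agent.SGA3t2b.K218.Fin.RegAbs
import Groth.Agent.SGA3t2b.K218.Ad.AdjSplit
import Groth.Agent.Sga3B.MT.FromSplit
import Groth.Agent.Sga3B.PinModelOf
import Groth.Agent.Sga3B.RedBcAny636
import Groth.Agent.Sga3B.RG.BrHc
import Groth.Agent.Sga3B.SplitIso848
import Groth.Agent.Par.K545.Centre

/-!
# Regular elements of the Lie algebra of an adjoint semisimple group over a finite field
-/

set_option autoImplicit false
universe u

open CategoryTheory MonoidalCategory CartesianMonoidalCategory MonObj GrpObj AlgebraicGeometry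
open TensorProduct

namespace K218.FinAsm

open Groth.Agent.Sga3B Cell MT PinMod DSPts Groth.Agent.Books.AffBridge K218.LieP K218.PModBC

section centre

variable {S : Scheme.{u}} {G : Over S} [GrpObj G]

/-- The centre has no points when it is trivial as a group scheme. -/
theorem triv_of_centre (hG : Red.IsReductive G)
    (hadj : ∀ (Z : Over S) [GrpObj Z] (j : Z ⟶ G), Red.IsCentre j → Red.IsTrivialGrp Z) :
    K194.AdjCentre.Triv G := by
  obtain ⟨Z, _, j, hj, -, -⟩ := K545.Centre.exists_centre hG
  have h2 : IsIso Z.hom := hadj _ _ hj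
  have h1 := hj.1
  intro X g hg
  obtain ⟨t, ht⟩ := (hj.2.2 X g).2 fun X' x y => by simpa using hg X' x y
  have h3 : t = 1 := by
    apply Over.OverMorphism.ext
    rw [← cancel_mono Z.hom, Over.w, Over.w]
  rw [← ht, h3, MonObj.one_comp]

end centre

section gpts

variable {k : Type u} [Field k] {G : Over (Spec (CommRingCat.of k))} [GrpObj G]

/-- the two versions of `Spec B` over `Spec k` -/
noncomputable def tI (k B : Type u) [Field k] [CommRing B] [Algebra k B] :
    SpecOver k B ≅ tB (𝟙 (Spec (CommRingCat.of k))) B :=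
  Over.isoMk (Iso.refl _) (by
    change 𝟙 _ ≫ Spec.map (CommRingCat.ofHom (algebraMap k B)) ≫ 𝟙 _ =
      Spec.map (CommRingCat.ofHom (algebraMap k B))
    rw [Category.id_comp, Category.comp_id])

lemma tI_nat {B C : Type u} [CommRing B] [Algebra k B] [CommRing C] [Algebra k C] (φ : B →ₐ[k] C) :
    (tI k C).hom ≫ tMap (𝟙 (Spec (CommRingCat.of k))) φ = specMap k φ ≫ (tI k B).hom := by
  ext1
  exact (Category.id_comp _).trans (Category.comp_id _).symm

/-- The points of a chart. -/
noncomputable def gpts (c : Chart G (𝟙 (Spec (CommRingCat.of k)))) : GPts G c.A where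
  pt B _ _ :=
    { toFun := fun g => (tI k B).hom ≫ c.pts B g
      invFun := fun y => (c.pts B).symm ((tI k B).inv ≫ y)
      left_inv := fun g => by simp
      right_inv := fun y => by simp
      map_mul' := fun g h => by rw [map_mul, MonObj.comp_mul] }
  nat {B C} _ _ _ _ φ g := by
    change (tI k C).hom ≫ c.pts C (Pt.map φ g) = specMap k φ ≫ (tI k B).hom ≫ c.pts B g
    rw [← c.pts_nat, ← Category.assoc, tI_nat, Category.assoc]

end gpts

section main

/-- Regular elements over a finite field. -/
theorem main {k : Type u} [Field k] [Finite k] {G : Over (Spec (CommRingCat.of k))} [GrpObj G]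
    (hG : Red.IsReductive G)
    (hadj : ∀ (Z : Over (Spec (CommRingCat.of k))) [GrpObj Z] (j : Z ⟶ G), Red.IsCentre j →
      Red.IsTrivialGrp Z)
    (c : Chart G (𝟙 (Spec (CommRingCat.of k)))) {L : Type u} [LieRing L] [LieAlgebra k L]
    [FiniteDimensional k L] (E : PMod k c.A L) : ∃ x : L, LieAlgebra.IsRegular k x := by
  let K := AlgebraicClosure k
  let GK := Red.bc (f₀ k K) G
  have hGK : Red.IsReductive GK := RedBcAny636.isReductive_bc (f₀ k K) hG
  have hsm : Smooth G.hom := hG.2.1
  have hsmA : Algebra.Smooth k c.A := ChartFib.smooth_of_isPullback c.isPullback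
  have hdom : MT.GeomDom k c.A := fun K' _ _ => ChartFib.isDomain hG c.isPullback K'
  -- the splitting over `K`
  have haff : IsAffineHom GK.hom := hGK.1
  have haff' : IsAffine GK.left := isAffine_of_isAffineHom GK.hom
  have hsmK : Smooth GK.hom := hGK.2.1
  obtain ⟨T, _, i, hT, r, hr⟩ := RG.BrHc.exists_isMaximalTorus (K := K) GK
  obtain ⟨D₀, -, -, hDr⟩ := RootFinal136.exists_splitRed hGK i hT hr
  obtain ⟨D, rfl⟩ := SplitIso848.nonempty_pinning D₀ hDr
  obtain ⟨cK⟩ := K929.LieRoot.exists_chart' D.toSplitRed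
  have hne : Nonempty (Spec (CommRingCat.of K)) := ⟨(⊥ : PrimeSpectrum K)⟩
  have hspan := K194.AdjCentre.span_of_triv D.toSplitRed ((triv_of_centre hG hadj).bc (f₀ k K))
  -- the cell
  have hsmK' : Algebra.Smooth K cK.A := ChartFib.smooth_of_isPullback cK.isPullback
  obtain ⟨E', hi, -⟩ := PinBuild.exists_pinCell (D := cK.datum D.toSplitRed)
    (fun K' _ _ => ChartFib.isDomain D.reductive cK.isPullback K')
    (PinModelOf.good D.toSplitRed cK) D.P
    (fun a => rfl) D.pairing_eq D.base (fun a _ => by
      obtain ⟨n, hn⟩ := PinModelOf.exists_acts D.toSplitRed cK a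
      exact ⟨n, fun t => PinModelOf.conj_of_acts (D := cK.datum D.toSplitRed) D.P (fun a => rfl)
        D.pairing_eq hn t⟩)
  -- the comparison
  let N : NatPt k K c.A cK.A := natPt (gpts c) cK.pts cK.pts_nat
  obtain ⟨e, he⟩ := N.exists_equiv
  have hm : ResMul (A := c.A) e := by
    intro B _ _ φ g h
    rw [he, he, he, map_mul]
  exact K218.RegAbs.exists_isRegular hm E (cK.datum D.toSplitRed) hdom
    (PinModelOf.good D.toSplitRed cK) D.P (fun a => rfl) D.base E' (fun B _ _ t => hi B t) hspan

end main

end K218.FinAsm
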