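import Groth.Agent.Sga3B.MT.FinRel729
import Groth.Agent.LieWt.K929.LieDict

/-!
# Inner infinitesimal automorphisms

For an infinitesimal point `X ∈ ker (G(B[ε]) → G(B))` the conjugation by `X` is an infinitesimal
automorphism `intA X : InfAut R A B`.
-/

set_option autoImplicit false
universe u

open TensorProduct TrivSqZeroExt

namespace K218.IntInf

open Groth.Agent.Sga3B Cell MT

variable {R A B C : Type u} [CommRing R] [CommRing A] [Algebra R A] [PtGrp R A] [CommRing B]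
  [Algebra R B] [CommRing C] [Algebra R C]

theorem exists_int (X : Pt R A (Eps B)) (hX : Pt.map (eFst R B) X = 1) : ∃ y : InfAut R A B,
    ∀ {B' : Type u} [CommRing B'] [Algebra R B'] (φ : B →ₐ[R] B') (g : Pt R A B'),
      y.app φ g = Pt.map (eMap φ) X * Pt.map (eInl R B') g * (Pt.map (eMap φ) X)⁻¹ := by
  refine InfAut.exists_of_family (fun B' _ _ φ g =>
    Pt.map (eMap φ) X * Pt.map (eInl R B') g * (Pt.map (eMap φ) X)⁻¹) ?_ ?_ ?_
  · intro B' C _ _ _ _ φ ψ g
    rw [Pt.map_mul, Pt.map_mul, Pt.map_inv, Pt.map_map, Pt.map_map, Pt.map_map, eMap_comp,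
      eMap_comp_eInl]
  · intro B' _ _ φ g
    have h1 : Pt.map (eFst R B') (Pt.map (eMap φ) X) = 1 := by
      rw [Pt.map_map, eFst_comp_eMap, ← Pt.map_map, hX, Pt.map_one]
    rw [Pt.map_mul, Pt.map_mul, Pt.map_inv, h1, Pt.map_map, eFst_comp_eInl, Pt.map_id]
    group
  · intro B' _ _ φ g h
    rw [Pt.map_mul]
    group

/-- The inner infinitesimal automorphism of an infinitesimal point. -/
noncomputable def intA (X : Pt R A (Eps B)) (hX : Pt.map (eFst R B) X = 1) : InfAut R A B :=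
  (exists_int X hX).choose

lemma app_intA (X : Pt R A (Eps B)) (hX : Pt.map (eFst R B) X = 1) {B' : Type u} [CommRing B']
    [Algebra R B'] (φ : B →ₐ[R] B') (g : Pt R A B') :
    (intA X hX).app φ g = Pt.map (eMap φ) X * Pt.map (eInl R B') g * (Pt.map (eMap φ) X)⁻¹ :=
  (exists_int X hX).choose_spec φ g

lemma eFst_map_eMap (ψ : B →ₐ[R] C) {X : Pt R A (Eps B)} (hX : Pt.map (eFst R B) X = 1) :
    Pt.map (eFst R C) (Pt.map (eMap ψ) X) = 1 := by
  rw [Pt.map_map, eFst_comp_eMap, ← Pt.map_map, hX, Pt.map_one]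

lemma eFst_conj (g : Pt R A B) {X : Pt R A (Eps B)} (hX : Pt.map (eFst R B) X = 1) :
    Pt.map (eFst R B) (Pt.map (eInl R B) g * X * (Pt.map (eInl R B) g)⁻¹) = 1 := by
  rw [Pt.map_mul, Pt.map_mul, hX, mul_one, Pt.map_inv, mul_inv_cancel]

lemma map_intA (ψ : B →ₐ[R] C) (X : Pt R A (Eps B)) (hX : Pt.map (eFst R B) X = 1) :
    InfAut.map ψ (intA X hX) = intA (Pt.map (eMap ψ) X) (eFst_map_eMap ψ hX) := by
  apply InfAut.ext_app
  intro B' _ _ φ g
  rw [InfAut.app_map, app_intA, app_intA, Pt.map_map, eMap_comp]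

lemma Ad_intA (g : Pt R A B) (X : Pt R A (Eps B)) (hX : Pt.map (eFst R B) X = 1) :
    InfAut.Ad g (intA X hX) =
      intA (Pt.map (eInl R B) g * X * (Pt.map (eInl R B) g)⁻¹) (eFst_conj g hX) := by
  apply InfAut.ext_app
  intro B' _ _ φ h
  have h1 : Pt.map (eMap φ) (Pt.map (eInl R B) g) = InfAut.inlPt φ g := by
    rw [Pt.map_map, eMap_comp_eInl]
    rfl
  have h2 : Pt.map (eInl R B') (Pt.map φ g) = InfAut.inlPt φ g := by
    rw [Pt.map_map]
    rfl
  rw [InfAut.app_Ad, app_intA, app_intA, Pt.map_mul, Pt.map_mul, Pt.map_inv, Pt.map_mul, Pt.map_mul,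
    Pt.map_inv, h1, h2]
  group

lemma comm_of_intA_eq {X Y : Pt R A (Eps B)} {hX : Pt.map (eFst R B) X = 1}
    {hY : Pt.map (eFst R B) Y = 1} (h : intA X hX = intA Y hY) {B' : Type u} [CommRing B']
    [Algebra R B'] (φ : B →ₐ[R] B') (g : Pt R A B') :
    Pt.map (eMap φ) (X⁻¹ * Y) * Pt.map (eInl R B') g =
      Pt.map (eInl R B') g * Pt.map (eMap φ) (X⁻¹ * Y) := by
  have h1 := congrArg (fun z : InfAut R A B => z.app φ g) h
  simp only [app_intA] at h1
  rw [Pt.map_mul, Pt.map_inv]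
  have h2 : (Pt.map (eMap φ) X)⁻¹ * Pt.map (eMap φ) Y * Pt.map (eInl R B') g =
      (Pt.map (eMap φ) X)⁻¹ * (Pt.map (eMap φ) Y * Pt.map (eInl R B') g * (Pt.map (eMap φ) Y)⁻¹) *
        Pt.map (eMap φ) Y := by group
  rw [h2, ← h1]
  group

section cell

variable {idx M : Type} [Fintype idx] [AddCommGroup M] [Module.Free ℤ M] [Module.Finite ℤ M]
variable {P : RootPairing idx ℤ M (Module.Dual ℤ M)} {b : P.Base} {B₀ : Type u} [CommRing B₀]
  [Algebra R B₀]

omit [Module.Free ℤ M] [Module.Finite ℤ M] in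
lemma map_tpt_conj {C P : Type*} [CommRing C] [Group P] (f : TPt M C →* P) (t t' : TPt M C) :
    f t * f t' * (f t)⁻¹ = f t' := by
  rw [← _root_.map_mul, mul_comm t t', _root_.map_mul]
  group

/-- The infinitesimal points of the torus give diagonal infinitesimal automorphisms. -/
theorem isDiag_int (F : RCell P b R A B₀) (φ₀ : B₀ →ₐ[R] B) (c : P.rootSpan ℤ →+ B)
    (t : TPt M (Eps B)) (ht : ∀ a, TPt.ch (P.root a) t = inl 1 + inr (c (P.rootSpanMem ℤ a)))
    (hX : Pt.map (eFst R B) (F.i ((eInl R B).comp φ₀) t) = 1) :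
    F.IsDiag φ₀ c (intA (F.i ((eInl R B).comp φ₀) t) hX) := by
  have key : ∀ {B' : Type u} [CommRing B'] [Algebra R B'] (ψ : B →ₐ[R] B'),
      Pt.map (eMap ψ) (F.i ((eInl R B).comp φ₀) t) =
        F.i ((eInl R B').comp (ψ.comp φ₀)) (TPt.map (eMap ψ) t) := by
    intro B' _ _ ψ
    rw [F.i_nat]
    have : (eMap ψ).comp ((eInl R B).comp φ₀) = (eInl R B').comp (ψ.comp φ₀) := by
      rw [← AlgHom.comp_assoc, eMap_comp_eInl, AlgHom.comp_assoc]
    rw [this]
  constructor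
  · intro B' _ _ ψ t'
    rw [app_intA, key, F.i_nat]
    exact map_tpt_conj (F.i ((eInl R B').comp (ψ.comp φ₀))) _ _
  · intro a B' _ _ ψ z
    rw [app_intA, key, F.uu_nat, F.rel]
    congr 1
    rw [TPt.ch_map, ht]
    apply TrivSqZeroExt.ext
    · simp
    · simp

end cell

section descend

/-- Descent of points of `Spec A` with values in dual numbers. -/
theorem exists_descend {k K : Type u} [CommRing k] [Algebra R k] [CommRing K] [Algebra R K]
    (j : k →ₐ[R] K) (hj : Function.Injective j) (σ : K →ₐ[R] K)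
    (hσ : ∀ z, σ z = z → ∃ y, j y = z) (X : Pt R A (Eps K)) (hX : Pt.map (eFst R K) X = 1)
    (hfix : Pt.map (eMap σ) X = X) :
    ∃ X₀ : Pt R A (Eps k), Pt.map (eFst R k) X₀ = 1 ∧ Pt.map (eMap j) X₀ = X := by
  have h1 : ∀ a, X.hom a ∈ (eMap j).range := by
    intro a
    have h2 : eMap σ (X.hom a) = X.hom a := congrArg (fun z : Pt R A (Eps K) => z.hom a) hfix
    obtain ⟨y₁, hy₁⟩ := hσ _ (congrArg TrivSqZeroExt.fst h2)
    obtain ⟨y₂, hy₂⟩ := hσ _ (congrArg TrivSqZeroExt.snd h2)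
    refine ⟨inl y₁ + inr y₂, ?_⟩
    apply TrivSqZeroExt.ext
    · simpa using hy₁
    · simpa using hy₂
  let e := AlgEquiv.ofInjective (eMap j) (eMap_injective hj)
  let X₀ : Pt R A (Eps k) := Pt.mk (e.symm.toAlgHom.comp (X.hom.codRestrict (eMap j).range h1))
  have h3 : Pt.map (eMap j) X₀ = X := by
    apply Pt.ext
    intro a
    have h4 : e (e.symm (X.hom.codRestrict (eMap j).range h1 a)) =
        X.hom.codRestrict (eMap j).range h1 a := e.apply_symm_apply _
    exact congrArg Subtype.val h4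
  refine ⟨X₀, ?_, h3⟩
  apply Pt.map_injective hj
  rw [Pt.map_map, ← eFst_comp_eMap, ← Pt.map_map, h3, hX, Pt.map_one]

end descend

end K218.IntInf
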