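import Groth.Agent.SGA3t2b.K218.Fin.IntInf
import Groth.Agent.SGA3t2b.K218.Fin.PModBC
import Groth.Agent.SGA3t2b.K218.Ad.CartanAbs
import Groth.Agent.SGA3t2b.K218.RankBC
import Groth.Agent.Sga3B.MT.Struct

/-!
# Regular elements of the Lie algebra of an adjoint group over a finite field, abstract form
-/

set_option autoImplicit false
universe u v

open TensorProduct

namespace K218.LieP.PMod

open Groth.Agent.Sga3B Cell K929.LieDict K929.LieCell

variable {k : Type u} [Field k] {A : Type u} [CommRing A] [Algebra k A] [PtGrp k A]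
  {L : Type v} [LieRing L] [LieAlgebra k L] (E : PMod k A L) (D : Datum k A)

include E in
/-- The centre of the Lie algebra vanishes when the roots span the characters. -/
theorem eq_zero_of_central (hG : D.Good) (h₀ : D.M →+ k) (hh : ∀ a, h₀ (D.root a) ≠ 0)
    (hspan : Submodule.span ℤ (Set.range D.root) = ⊤) (z : L) (hz : ∀ w : L, ⁅w, z⁆ = 0) : z = 0 := by
  obtain ⟨ξ, h', rfl⟩ := E.exists_decomp D hG z
  have h1 := E.lie_tors_sum D h₀ ξ h'
  rw [hz] at h1
  have h2 := E.decomp_unique D (ξ := fun a => h₀ (D.root a) * ξ a) (ξ' := 0) (h := 0)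
      (h' := 0) (by rw [← h1]; simp)
  have h3 : ξ = 0 := by
    funext a
    have := congrFun h2.1 a
    simpa [hh a] using this
  subst h3
  have h4 := E.lie_tors_sum D h' (fun _ => 1) 0
  have h5 : ⁅E.tors D h', ∑ a, (1 : k) • E.rootv D a + E.tors D 0⁆ = 0 := by
    rw [← lie_skew]
    have := hz (∑ a, (1 : k) • E.rootv D a + E.tors D 0)
    simp only [Pi.zero_apply, zero_smul, Finset.sum_const_zero, zero_add] at this
    rw [this, neg_zero]
  rw [h5] at h4
  have h6 := E.decomp_unique D (ξ := fun a => h' (D.root a) * 1) (ξ' := 0) (h := 0)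
      (h' := 0) (by rw [← h4]; simp)
  have h7 : ∀ a, h' (D.root a) = 0 := fun a => by
    have := congrFun h6.1 a
    simpa using this
  have h8 : h' = 0 := by
    ext m
    have hm : m ∈ Submodule.span ℤ (Set.range D.root) := by rw [hspan]; trivial
    induction hm using Submodule.span_induction with
    | mem x hx => obtain ⟨a, rfl⟩ := hx; exact h7 a
    | zero => simp
    | add x y _ _ hx hy => rw [map_add, hx, hy]; simp
    | smul n x _ hx => rw [map_zsmul, hx]; simp
  subst h8
  simp

end K218.LieP.PMod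

namespace K218.RegAbs

open Groth.Agent.Sga3B Cell MT K929.LieDict K218.LieP K218.IntInf K218.PModBC

variable {k K A A₀ : Type u} [Field k] [Field K] [Algebra k K] [CommRing A]
  [Algebra k A] [PtGrp k A] [CommRing A₀] [Algebra K A₀] [PtGrp K A₀] {e : K ⊗[k] A ≃ₐ[K] A₀}
  (hm : ResMul (A := A) e)
  {L : Type u} [LieRing L] [LieAlgebra k L] (E : PMod k A L) [FiniteDimensional k L]
  (D : Datum K A₀)

include hm E in
/-- Inner infinitesimal automorphisms determine the infinitesimal points. -/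
theorem eq_of_intA_eq (hgood : D.Good) (h₀ : D.M →+ K) (hh : ∀ a, h₀ (D.root a) ≠ 0)
    (hspan : Submodule.span ℤ (Set.range D.root) = ⊤) {X Y : Pt k A (Eps K)}
    {hX : Pt.map (eFst k K) X = 1} {hY : Pt.map (eFst k K) Y = 1}
    (h : intA X hX = intA Y hY) : X = Y := by
  have hZ : X⁻¹ * Y ∈ infP k A K := mul_mem (inv_mem hX) hY
  obtain ⟨z, hz⟩ := PK_surj E _ hZ
  have hz0 : z = 0 := by
    refine (bc hm E).eq_zero_of_central D hgood h₀ hh hspan z fun w => ?_
    apply (bc hm E).Q12_injective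
    rw [(bc hm E).Q_lie (PMod.e1 K) (PMod.e2 K) PMod.e1_sq PMod.e2_sq PMod.e12_sq, (bc hm E).Q_zero]
    have key : (bc hm E).Q (PMod.e1 K) PMod.e1_sq w * (bc hm E).Q (PMod.e2 K) PMod.e2_sq z =
        (bc hm E).Q (PMod.e2 K) PMod.e2_sq z * (bc hm E).Q (PMod.e1 K) PMod.e1_sq w := by
      apply rs_injective (k := k) e
      rw [rs_mul hm, rs_mul hm]
      have h1 : rs (k := k) e ((bc hm E).Q (PMod.e1 K) PMod.e1_sq w) =
          Pt.map (eInl k (DualNumber K)) (PK E w) := by
        unfold PMod.Q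
        rw [rs_nat, rs_bc_P]
        congr 1
        apply AlgHom.ext
        intro x
        change evs (PMod.e1 K) PMod.e1_sq x = TrivSqZeroExt.inl x
        rw [evs_apply]
        unfold PMod.e1
        apply TrivSqZeroExt.ext
        · apply TrivSqZeroExt.ext <;> simp [TrivSqZeroExt.algebraMap_eq_inl']
        · simp [TrivSqZeroExt.algebraMap_eq_inl']
      have h2 : rs (k := k) e ((bc hm E).Q (PMod.e2 K) PMod.e2_sq z) =
          Pt.map (eMap (tinl k K)) (X⁻¹ * Y) := by
        unfold PMod.Q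
        rw [rs_nat, rs_bc_P, hz]
        congr 1
        apply AlgHom.ext
        intro x
        change evs (PMod.e2 K) PMod.e2_sq x = eMap (tinl k K) x
        rw [evs_apply]
        unfold PMod.e2
        apply TrivSqZeroExt.ext
        · simp [TrivSqZeroExt.algebraMap_eq_inl']
        · simp [TrivSqZeroExt.algebraMap_eq_inl']
      rw [h1, h2]
      exact (comm_of_intA_eq h (tinl k K) (PK E w)).symm
    rw [key]
    group
  subst hz0
  have h1 : PK E (0 : K ⊗[k] L) = 1 := by
    have h2 := PK_add E (0 : K ⊗[k] L) 0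
    rw [add_zero] at h2
    exact mul_eq_left.mp h2.symm
  rw [h1] at hz
  exact (inv_mul_eq_one.mp hz.symm)

omit [PtGrp k A] [FiniteDimensional k L] in
/-- the torus points of the relative cell data -/
lemma rcell_i [PtGrp k A] (hm : ResMul (A := A) e)
    {P : RootPairing D.idx ℤ D.M (Module.Dual ℤ D.M)} {b : P.Base} (E' : PinCell P b K A₀)
    (hi : ∀ (B : Type u) [CommRing B] [Algebra K B] (t : TPt D.M B), E'.i B t = D.i B t)
    (t : TPt D.M (DualNumber K)) :
    (RCell.ofPinCell hm E').i ((eInl k K).comp (AlgHom.id k K)) t = rs e (D.i (DualNumber K) t) := by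
  let φ : K →ₐ[k] DualNumber K := (eInl k K).comp (AlgHom.id k K)
  let τ : DualNumber K →ₐ[K] Via φ := { (RingHom.id (DualNumber K)) with commutes' := fun r => rfl }
  change res e φ (E'.i (Via φ) t) = _
  have h1 : E'.i (Via φ) t = Pt.map τ (D.i (DualNumber K) t) := by
    rw [← hi, E'.i_nat]
    rfl
  rw [h1]
  rfl

include hm E in
/-- **Regular elements of the Lie algebra of an adjoint group over a finite field.** -/
theorem exists_isRegular [Finite k] [IsAlgClosed K] [Algebra.Smooth k A] (hdom : MT.GeomDom k A)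
    (hgood : D.Good)
    (P : RootPairing D.idx ℤ D.M (Module.Dual ℤ D.M)) (hP : ∀ a, P.root a = D.root a) (b : P.Base)
    (E' : PinCell P b K A₀)
    (hi : ∀ (B : Type u) [CommRing B] [Algebra K B] (t : TPt D.M B), E'.i B t = D.i B t)
    (hspan : Submodule.span ℤ (Set.range D.root) = ⊤) : ∃ x : L, LieAlgebra.IsRegular k x := by
  have := Fintype.ofFinite k
  have hred : P.IsReduced := Groth.Agent.Sga3B.PinComb.isReduced b
  let j : k →ₐ[k] K := Algebra.ofId k K
  let F : RCell P b k A K := RCell.ofPinCell hm E'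
  obtain ⟨x₀, g, c, y, hy, hc, hxy⟩ := FinRel729.exists_isReg_of_finite hdom j F
    (fun φ x => F.exists_zero_locus hdom φ x)
    (fun φ ψ h1 h2 ξ g₀ c₀ y₀ h3 h4 h5 => RCell.IsReg.lift F hdom φ ψ h1 h2 ξ g₀ c₀ y₀ h3 h4 h5)
  have hmem : ∀ m : D.M, m ∈ P.rootSpan ℤ := by
    intro m
    have h1 : Set.range P.root = Set.range D.root := by
      congr 1
      funext a
      exact hP a
    change m ∈ Submodule.span ℤ (Set.range P.root)
    rw [h1, hspan]
    trivial
  let h : D.M →+ K :=
    { toFun := fun m => c ⟨m, hmem m⟩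
      map_zero' := map_zero c
      map_add' := fun m n => map_add c ⟨m, hmem m⟩ ⟨n, hmem n⟩ }
  have hh : ∀ a, h (P.root a) = c (P.rootSpanMem ℤ a) := fun _ => rfl
  have hh' : ∀ a, h (D.root a) ≠ 0 := by
    intro a
    rw [← hP, hh]
    exact (hc a).ne_zero
  let t : TPt D.M (DualNumber K) := tpt (DualNumber.eps : DualNumber K) (LieS.eps_sq K) h
  have hFi := rcell_i (k := k) D hm E' hi t
  have hX₁ : Pt.map (eFst k K) (F.i ((eInl k K).comp (AlgHom.id k K)) t) = 1 := by
    rw [hFi, ← rs_one (k := k) hm, ← mem_infP.1 (PMod.i_tpt_mem D h)]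
    rfl
  have hdiag := isDiag_int F (AlgHom.id k K) c t (fun a => by
    rw [ch_tpt, hh]
    apply TrivSqZeroExt.ext
    · simp
    · simp) hX₁
  have hyX : y = intA _ hX₁ := by
    apply F.ext_infAut hdom (AlgHom.id k K)
    · intro B' _ _ ψ t
      rw [hy.1, hdiag.1]
    · intro a B' _ _ ψ z
      rw [hy.2, hdiag.2]
  rw [hyX, Ad_intA] at hxy
  obtain ⟨σ, hσ⟩ := Lang986.exists_frob (R := k) j
  have hσj : σ.comp j = j := Subsingleton.elim _ _
  have hfix := congrArg (InfAut.map σ) hxy
  rw [InfAut.map_map, hσj, hxy, map_intA] at hfix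
  have hfix' := (eq_of_intA_eq hm E D hgood h hh' hspan hfix).symm
  obtain ⟨X₀, hX₀, hX₀'⟩ := exists_descend j (algebraMap k K).injective σ (fun z hz =>
    Fin986.exists_of_pow_card j.toRingHom (by rw [← hσ]; exact hz)) _ (eFst_conj g hX₁) hfix'
  obtain ⟨x, hx⟩ := E.P_surj X₀ hX₀
  refine ⟨x, ?_⟩
  obtain ⟨g', rfl⟩ := rs_surjective (k := k) e g
  have hmain : (1 : K) ⊗ₜ[k] x = (bc hm E).Ad g' ((bc hm E).tors D h) := by
    apply PK_injective E
    rw [PK_one_tmul, hx, ← rs_bc_P hm E ((bc hm E).Ad g' _), (bc hm E).P_Ad, (bc hm E).P_tors,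
      rs_mul hm, rs_mul hm, rs_inv hm, rs_nat, ← hFi]
    exact hX₀'
  rw [← RankBC.isRegular_baseChange k K x, hmain, RankBC.isRegular_lieEquiv]
  have : Infinite K := IsAlgClosed.instInfinite
  exact (bc hm E).isRegular_tors D hgood h hh'

end K218.RegAbs
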